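import Mathlib.AlgebraicGeometry.Morphisms.QuasiFinite
import Mathlib.RingTheory.Ideal.KrullsHeightTheorem
import Mathlib.AlgebraicGeometry.IdealSheaf.Functorial
import Mathlib.Topology.NoetherianSpace

/-!
# Curves through a point which are quasi-finite over the base

In a locally Noetherian scheme, a generization of `x` in an open set can be chosen with only `x`
strictly below it; the closure of such a point is quasi-finite at `x`.
-/

universe u

open CategoryTheory AlgebraicGeometry TopologicalSpace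

namespace Groth.Agent.Lib.QFCurve

/-- In a Noetherian quasi-sober space, a point in the closure of `T` is a specialization of a point
generizing a point of `T` and lying in the closure of `T`. -/
theorem exists_specializes_of_mem_closure {V : Type*} [TopologicalSpace V] [NoetherianSpace V]
    [QuasiSober V] {T : Set V} {x : V} (hx : x ∈ closure T) :
    ∃ w y, w ⤳ x ∧ y ∈ T ∧ w ⤳ y ∧ w ∈ closure T := by
  obtain ⟨S, hS, hSmin⟩ := wellFounded_lt.has_min
    {S : Closeds V | x ∈ closure (T ∩ S)} ⟨⊤, by simpa using hx⟩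
  have hS' : x ∈ closure (T ∩ S) := hS
  have hclo : closure (T ∩ S) = (S : Set V) := by
    refine Set.Subset.antisymm (closure_minimal Set.inter_subset_right S.2) ?_
    by_contra hne
    refine hSmin ⟨closure (T ∩ S), isClosed_closure⟩ ?_ ?_
    · exact closure_mono (Set.subset_inter Set.inter_subset_left subset_closure) hS'
    · exact ⟨closure_minimal Set.inter_subset_right S.2, hne⟩
  have hne : (T ∩ S : Set V).Nonempty := by
    by_contra h
    rw [Set.not_nonempty_iff_eq_empty] at h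
    simp [h] at hS'
  have hirr : IsIrreducible (S : Set V) := by
    refine ⟨hne.mono Set.inter_subset_right, isPreirreducible_iff_isClosed_union_isClosed.mpr
      fun A B hA hB hAB => ?_⟩
    by_contra h
    rw [not_or] at h
    have hx' : x ∈ closure (T ∩ (S ∩ A)) ∪ closure (T ∩ (S ∩ B)) := by
      rw [← closure_union, ← Set.inter_union_distrib_left, ← Set.inter_union_distrib_left,
        Set.inter_eq_left.mpr hAB]
      exact hS'
    rcases hx' with hx' | hx'
    · exact hSmin ⟨S ∩ A, S.2.inter hA⟩ hx'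
        ⟨Set.inter_subset_left, fun hle => h.1 fun v hv => (hle hv).2⟩
    · exact hSmin ⟨S ∩ B, S.2.inter hB⟩ hx'
        ⟨Set.inter_subset_left, fun hle => h.2 fun v hv => (hle hv).2⟩
  obtain ⟨w, hw⟩ := QuasiSober.sober hirr S.2
  obtain ⟨y, hyT, hyS⟩ := hne
  refine ⟨w, y, hw.specializes ?_, hyT, hw.specializes hyS, ?_⟩
  · exact hclo.le hS'
  · exact closure_mono Set.inter_subset_left (hclo.ge hw.mem)

/-- A nonempty open set of the spectrum of a Noetherian local ring not containing the closed point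
contains a point all of whose strict specializations are closed. -/
theorem exists_mem_open_forall_lt_isMaximal {O : Type u} [CommRing O] [IsNoetherianRing O]
    [IsLocalRing O] (W : Set (PrimeSpectrum O)) (hW : IsOpen W) (hne : W.Nonempty)
    (_hclosed : IsLocalRing.closedPoint O ∉ W) :
    ∃ P ∈ W, ∀ Q : PrimeSpectrum O, P.asIdeal < Q.asIdeal → Q = IsLocalRing.closedPoint O := by
  obtain ⟨P, hP, hPmax⟩ := set_has_maximal_iff_noetherian.mpr inferInstance
    (PrimeSpectrum.asIdeal '' W) (hne.image _)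
  obtain ⟨P, hPW, rfl⟩ := hP
  refine ⟨P, hPW, fun Q hPQ => ?_⟩
  obtain ⟨s, hs⟩ := (PrimeSpectrum.isClosed_iff_zeroLocus _).mp hW.isClosed_compl
  have hout : ∀ Q : PrimeSpectrum O, P.asIdeal < Q.asIdeal → s ⊆ Q.asIdeal := fun Q hQ => by
    have : Q ∈ Wᶜ := fun hQW => hPmax _ ⟨Q, hQW, rfl⟩ hQ
    rw [hs] at this
    exact this
  obtain ⟨a, has, haP⟩ : ∃ a ∈ s, a ∉ P.asIdeal := by
    by_contra! h
    have : P ∈ Wᶜ := by rw [hs]; exact h
    exact this hPW
  let π := Ideal.Quotient.mk P.asIdeal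
  by_contra hQm
  have hQlt : Q.asIdeal < IsLocalRing.maximalIdeal O := by
    refine lt_of_le_of_ne (IsLocalRing.le_maximalIdeal Q.2.ne_top) fun he => hQm ?_
    ext1
    exact he
  let A := O ⧸ P.asIdeal
  have hK : ∀ q : Ideal A, q.IsPrime → q ≠ ⊥ → π a ∈ q := fun q hq hq0 => by
    refine hout ⟨q.comap π, hq.comap π⟩ (lt_of_le_of_ne ?_ ?_) has
    · intro z hz
      show π z ∈ q
      rw [Ideal.Quotient.eq_zero_iff_mem.mpr hz]
      exact q.zero_mem
    · intro he
      refine hq0 ?_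
      rw [← Ideal.map_comap_of_surjective π Ideal.Quotient.mk_surjective q]
      show Ideal.map π (q.comap π) = ⊥
      rw [← show P.asIdeal = q.comap π from he]
      exact Ideal.map_quotient_self _
  have ha0 : π a ≠ 0 := fun h => haP (Ideal.Quotient.eq_zero_iff_mem.mp h)
  let Q' := Q.asIdeal.map π
  have hQ' : Q'.IsPrime :=
    Ideal.map_isPrime_of_surjective Ideal.Quotient.mk_surjective (by
      rw [Ideal.mk_ker]; exact hPQ.le)
  let m := (IsLocalRing.maximalIdeal O).map π
  have hfin := Ideal.finite_minimalPrimes_of_isNoetherianRing A (Ideal.span {π a})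
  have hQ'0 : Q' ≠ ⊥ := fun h => hPQ.not_ge fun z hz =>
    Ideal.Quotient.eq_zero_iff_mem.mp (by
      have := Ideal.mem_map_of_mem π hz
      rw [show Q.asIdeal.map π = Q' from rfl, h, Ideal.mem_bot] at this
      exact this)
  have hQ'm : Q' < m := by
    refine lt_of_le_of_ne (Ideal.map_mono hQlt.le) fun he => hQlt.ne ?_
    have h₁ := congrArg (Ideal.comap π) he
    rwa [Ideal.comap_map_of_surjective π Ideal.Quotient.mk_surjective,
      Ideal.comap_map_of_surjective π Ideal.Quotient.mk_surjective, ← RingHom.ker_eq_comap_bot,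
      Ideal.mk_ker, sup_eq_left.mpr hPQ.le, sup_eq_left.mpr (hPQ.le.trans hQlt.le)] at h₁
  obtain ⟨b, hbm, hb⟩ : ∃ b ∈ m, ∀ q ∈ (Ideal.span {π a}).minimalPrimes, b ∉ q := by
    by_contra! h
    have hsub : (m : Set A) ⊆ ⋃ q ∈ (hfin.toFinset : Set (Ideal A)), (q : Set A) := fun b hb => by
      obtain ⟨q, hq, hbq⟩ := h b hb
      exact Set.mem_biUnion (by simpa using hq) hbq
    obtain ⟨q, hq, hle⟩ := (Ideal.subset_union_prime (f := fun q => q) ⊥ ⊥ fun q hq _ _ =>
      (hfin.mem_toFinset.mp hq).1.1).mp hsub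
    rw [hfin.mem_toFinset] at hq
    have haQ : Ideal.span {π a} ≤ Q' := by
      rw [Ideal.span_singleton_le_iff_mem]
      exact hK Q' hQ' hQ'0
    exact hQ'm.not_ge (hle.trans (hq.2 ⟨hQ', haQ⟩ (hQ'm.le.trans hle)))
  have hm : m.IsPrime :=
    Ideal.map_isPrime_of_surjective Ideal.Quotient.mk_surjective (by
      rw [Ideal.mk_ker]; exact hPQ.le.trans hQlt.le)
  obtain ⟨q, hq, -⟩ := Ideal.exists_minimalPrimes_le (I := Ideal.span {b}) (J := m)
    (by rwa [Ideal.span_singleton_le_iff_mem])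
  have := hq.isPrime
  have hbq : b ∈ q := hq.1.2 (Ideal.subset_span rfl)
  have hq0 : q ≠ ⊥ := by
    rintro rfl
    rw [Ideal.mem_bot] at hbq
    obtain ⟨q₀, hq₀, -⟩ := Ideal.exists_minimalPrimes_le (I := Ideal.span {π a}) (J := m)
      (by rw [Ideal.span_singleton_le_iff_mem]; exact hK m hm (ne_bot_of_gt hQ'm))
    exact hb q₀ hq₀ (hbq ▸ q₀.zero_mem)
  obtain ⟨q₀, hq₀, hq₀q⟩ := Ideal.exists_minimalPrimes_le (I := Ideal.span {π a}) (J := q)
    (by rw [Ideal.span_singleton_le_iff_mem]; exact hK q hq.isPrime hq0)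
  have := hq₀.isPrime
  have hlt : q₀ < q := lt_of_le_of_ne hq₀q fun he => hb q₀ hq₀ (he ▸ hbq)
  have hbot : (⊥ : Ideal A) < q₀ :=
    bot_lt_iff_ne_bot.mpr fun he => ha0 (by
      have := hq₀.1.2 (Ideal.subset_span (Set.mem_singleton (π a)))
      rwa [he, Ideal.mem_bot] at this)
  have h1 : q.height ≤ 1 := Ideal.height_le_one_of_isPrincipal_of_mem_minimalPrimes _ q hq
  have h2 := Ideal.height_strict_mono_of_isPrime hbot
  have h3 := Ideal.height_strict_mono_of_isPrime hlt
  have h5 : q₀.height ≠ 0 := fun h => by rw [h] at h2; exact not_lt_bot h2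
  exact absurd (lt_of_lt_of_le h3 h1) (fun h => h5 (Order.lt_one_iff.mp h))

/-- Some generization of `x` in `U` outside its fibre has only `x` strictly below it, among the
points of the fibre; its closure is quasi-finite at `x`. -/
theorem exists_quasiFiniteAt_closure {X S : Scheme.{u}} (f : X ⟶ S) [LocallyOfFiniteType f]
    [IsLocallyNoetherian S] (x : X) (hcl : IsClosed (Subtype.val ⁻¹' {x} : Set ↑(f ⁻¹' {f x})))
    (U : X.Opens) (x' : X) (hU : x' ∈ U) (hx' : x' ⤳ x) (hne : f x' ≠ f x) :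
    ∃ (I : X.IdealSheafData) (z₀ x₀ : ↑I.subscheme), I.subschemeι x₀ = x ∧
      (I.subschemeι ≫ f).QuasiFiniteAt x₀ ∧
      I.subschemeι z₀ ∈ U ∧ I.subschemeι z₀ ⤳ x ∧ f (I.subschemeι z₀) ≠ f x := by
  have := LocallyOfFiniteType.isLocallyNoetherian f
  let φ := X.fromSpecStalk x
  let C : Set X := f ⁻¹' closure {f x}
  have hfx : ∀ p, p ⤳ x → (p ∈ C ↔ f p = f x) := fun p hp =>
    ⟨fun h => (hp.map f.continuous).antisymm (specializes_iff_mem_closure.mpr h) |>.eq,
      fun h => subset_closure h⟩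
  let W : Set (PrimeSpectrum (X.presheaf.stalk x)) := φ ⁻¹' ((U : Set X) ∩ Cᶜ)
  have hW : IsOpen W :=
    (U.2.inter (isClosed_closure.preimage f.continuous).isOpen_compl).preimage φ.continuous
  have hWne : W.Nonempty := by
    obtain ⟨q, hq⟩ : x' ∈ Set.range φ := by rw [Scheme.range_fromSpecStalk]; exact hx'
    exact ⟨q, show φ q ∈ U from hq ▸ hU, show φ q ∉ C from hq ▸ fun h => hne ((hfx x' hx').mp h)⟩
  have hWc : IsLocalRing.closedPoint (X.presheaf.stalk x) ∉ W := fun h => h.2 (by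
    show φ _ ∈ C
    rw [Scheme.fromSpecStalk_closedPoint]
    exact subset_closure rfl)
  obtain ⟨P, hPW, hP⟩ := exists_mem_open_forall_lt_isMaximal W hW hWne hWc
  have hzx : φ P ⤳ x := by
    have : φ P ∈ Set.range φ := ⟨P, rfl⟩
    rwa [Scheme.range_fromSpecStalk] at this
  have hzf : f (φ P) ≠ f x := fun h => hPW.2 ((hfx _ hzx).mpr h)
  have hkey : ∀ w, φ P ⤳ w → w ⤳ x → f w = f x → w = x := by
    intro w hzw hwx hw
    obtain ⟨Q, rfl⟩ : w ∈ Set.range φ := by rw [Scheme.range_fromSpecStalk]; exact hwx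
    have hle : P ≤ Q :=
      (PrimeSpectrum.le_iff_specializes P Q).mpr (φ.isEmbedding.specializes_iff.mp hzw)
    rcases hle.lt_or_eq with h | h
    · rw [hP Q h]
      exact Scheme.fromSpecStalk_closedPoint
    · exact absurd (h ▸ hw) hzf
  let I := Scheme.IdealSheafData.vanishingIdeal (⟨closure {φ P}, isClosed_closure⟩ : Closeds X)
  have hrange : Set.range I.subschemeι = closure {φ P} := by
    rw [Scheme.IdealSheafData.range_subschemeι, Scheme.IdealSheafData.coe_support_vanishingIdeal]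
    rfl
  obtain ⟨z₀, hz₀⟩ : φ P ∈ Set.range I.subschemeι := by rw [hrange]; exact subset_closure rfl
  obtain ⟨x₀, hx₀⟩ : x ∈ Set.range I.subschemeι := by
    rw [hrange]; exact specializes_iff_mem_closure.mp hzx
  refine ⟨I, z₀, x₀, hx₀, ?_, hz₀ ▸ hPW.1, hz₀ ▸ hzx, hz₀ ▸ hzf⟩
  have := LocallyOfFiniteType.isLocallyNoetherian I.subschemeι
  obtain ⟨g, hg⟩ : ∃ g : I.subscheme ⟶ S, g = I.subschemeι ≫ f := ⟨_, rfl⟩
  have : LocallyOfFiniteType g := hg ▸ inferInstance
  have hgx : g x₀ = f x := by rw [hg, Scheme.Hom.comp_apply, hx₀]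
  rw [← hg]
  rw [Scheme.Hom.quasiFiniteAt_iff_isOpen_singleton_asFiber]
  rw [← (g.fiberHomeo (g x₀)).isOpen_image]
  simp only [Set.image_singleton, Scheme.Hom.asFiber, Homeomorph.apply_symm_apply]
  obtain ⟨V, hV, hxV, -⟩ := exists_isAffineOpen_mem_and_subset (x := x₀) (U := ⊤) trivial
  have : IsAffine V.toScheme := hV
  have : IsLocallyNoetherian V.toScheme := LocallyOfFiniteType.isLocallyNoetherian V.ι
  have : IsNoetherian V.toScheme := {}
  have : NoetherianSpace V.toScheme := inferInstance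
  let T : Set V.toScheme := {v | g v.1 = g x₀ ∧ v.1 ≠ x₀}
  have hnot : (⟨x₀, hxV⟩ : V.toScheme) ∉ closure T := by
    intro hmem
    obtain ⟨w, y, hwx, ⟨hyg, hyne⟩, hwy, hwcl⟩ :=
      exists_specializes_of_mem_closure (V := V.toScheme) hmem
    have hw₁ : (g w.1 : S) ⤳ g x₀ := (hwx.map continuous_subtype_val).map g.continuous
    have hw₂ : g x₀ ⤳ g w.1 := by
      refine specializes_iff_mem_closure.mpr ?_
      have : closure T ⊆ (fun v : V.toScheme => g v.1) ⁻¹' closure {g x₀} :=
        closure_minimal (fun v hv => subset_closure hv.1)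
          (isClosed_closure.preimage (g.continuous.comp continuous_subtype_val))
      exact this hwcl
    have hgw : g w.1 = g x₀ := (hw₁.antisymm hw₂).eq
    have hw : I.subschemeι w.1 = x := by
      refine hkey _ ?_ ?_ ?_
      · exact specializes_iff_mem_closure.mpr (hrange.le ⟨w.1, rfl⟩)
      · exact hx₀ ▸ (hwx.map continuous_subtype_val).map I.subschemeι.continuous
      · rw [← Scheme.Hom.comp_apply, ← hg]; exact hgw.trans hgx
    have hxy : x ⤳ I.subschemeι y.1 :=
      hw ▸ (hwy.map continuous_subtype_val).map I.subschemeι.continuous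
    have hyf : f (I.subschemeι y.1) = f x := by
      rw [← Scheme.Hom.comp_apply, ← hg]; exact hyg.trans hgx
    have : (⟨I.subschemeι y.1, hyf⟩ : ↑(f ⁻¹' {f x})) ∈ (Subtype.val ⁻¹' {x} : Set ↑(f ⁻¹' {f x})) := by
      have hs : (⟨x, rfl⟩ : ↑(f ⁻¹' {f x})) ⤳ ⟨I.subschemeι y.1, hyf⟩ :=
        Topology.IsInducing.subtypeVal.specializes_iff.mp hxy
      exact hs.mem_closed hcl rfl
    exact hyne (I.subschemeι.isClosedEmbedding.injective (Eq.trans this hx₀.symm))
  obtain ⟨O, hO, hOeq⟩ := isOpen_induced_iff.mp (isClosed_closure (s := T)).isOpen_compl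
  refine isOpen_induced_iff.mpr ⟨O ∩ V, hO.inter V.2, ?_⟩
  ext ⟨p, hp⟩
  constructor
  · rintro ⟨hpO, hpV⟩
    by_contra hne'
    have hh : (⟨p, hpV⟩ : V.toScheme) ∈ (closure T)ᶜ :=
      (Set.ext_iff.mp hOeq (⟨p, hpV⟩ : V.toScheme)).mp hpO
    exact hh (subset_closure ⟨hp, fun e => hne' (Subtype.ext e)⟩)
  · intro h
    have hp' : p = x₀ := congrArg Subtype.val h
    subst hp'
    refine ⟨?_, hxV⟩
    exact (Set.ext_iff.mp hOeq (⟨p, hxV⟩ : V.toScheme)).mpr hnot

end Groth.Agent.Lib.QFCurve
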